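import Groth.Agent.QCoh.Basic
import Mathlib.Topology.Sheaves.LocallySurjective
import Mathlib.Algebra.Homology.ShortComplex.Ab
import Mathlib.Algebra.Category.ModuleCat.Presheaf.Colimits
import Mathlib.Algebra.Category.ModuleCat.Presheaf.Sheafification
import Mathlib.Algebra.Category.Grp.FilteredColimits
import Mathlib.Algebra.Category.Grp.AB
import Mathlib.CategoryTheory.Sites.EpiMono
import Mathlib.CategoryTheory.Sites.Abelian
import Mathlib.Algebra.Category.Grp.Limits

/-!
# Quasi-coherent modules: kernels, cokernels, colimits, extensions; exactness on affine opens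
-/

universe w' w u

open CategoryTheory Limits AlgebraicGeometry Opposite TopologicalSpace

noncomputable section

namespace Groth.Agent.QCoh

variable {X : Scheme.{u}}

section Sections

/-- Sections over `U` as a functor to abelian groups. -/
def sectionsFunctor (X : Scheme.{u}) (U : X.Opens) : X.Modules ⥤ Ab.{u} :=
  Scheme.Modules.toPresheaf X ⋙ (evaluation _ _).obj (op U)

instance (U : X.Opens) : PreservesLimits (sectionsFunctor X U) := by
  have : PreservesLimitsOfSize.{u, u} ((evaluation (Opens X)ᵒᵖ Ab.{u}).obj (op U)) := inferInstance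
  exact comp_preservesLimits _ _

instance (U : X.Opens) : (sectionsFunctor X U).Additive where
  map_add := rfl

/-- Left exactness of sections: injectivity. -/
lemma app_injective_of_mono {M N : X.Modules} (f : M ⟶ N) [Mono f] (U : X.Opens) :
    Function.Injective (f.app U) := by
  have : Mono ((sectionsFunctor X U).map f) := inferInstance
  exact (AddCommGrpCat.mono_iff_injective _).mp this

/-- Left exactness of sections: exactness in the middle. -/
lemma exists_app_eq_of_app_eq_zero (S : ShortComplex X.Modules) (hS : S.Exact) [Mono S.f]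
    (U : X.Opens) (x : Γ(S.X₂, U)) (hx : S.g.app U x = 0) : ∃ y, S.f.app U y = x := by
  have h := hS.map_of_mono_of_preservesKernel (sectionsFunctor X U) inferInstance inferInstance
  rw [ShortComplex.ab_exact_iff] at h
  exact h x hx

lemma app_app_eq_zero (S : ShortComplex X.Modules) (U : X.Opens) (y : Γ(S.X₁, U)) :
    S.g.app U (S.f.app U y) = 0 := by
  rw [← ConcreteCategory.comp_apply, ← Scheme.Modules.Hom.comp_app, S.zero]
  rfl

end Sections

section Epi

/-- Forgetting the module structures preserves epimorphisms of sheaves of modules. -/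
theorem epi_toSheaf_map {C : Type u} [SmallCategory C] {T : GrothendieckTopology C}
    {R : Sheaf T RingCat.{u}} {M N : SheafOfModules.{u} R} (φ : M ⟶ N) [Epi φ] :
    Epi ((SheafOfModules.toSheaf.{u} R).map φ) := by
  let adj := PresheafOfModules.sheafificationAdjunction.{u} (R₀ := R.obj) (R := R) (𝟙 R.obj)
  let L := PresheafOfModules.sheafification.{u} (R₀ := R.obj) (R := R) (𝟙 R.obj)
  let ψ := (SheafOfModules.forget R).map φ
  let cM : L.obj ((SheafOfModules.forget R).obj M) ⟶ M := adj.counit.app M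
  let cN : L.obj ((SheafOfModules.forget R).obj N) ⟶ N := adj.counit.app N
  have : IsIso cM := inferInstanceAs (IsIso (adj.counit.app M))
  have : IsIso cN := inferInstanceAs (IsIso (adj.counit.app N))
  have hn : L.map ψ ≫ cN = cM ≫ φ := adj.counit.naturality φ
  have hL : Epi (L.map ψ) := by
    have : L.map ψ = cM ≫ φ ≫ inv cN := by
      rw [← Category.assoc, IsIso.eq_comp_inv, hn]
    rw [this]; infer_instance
  have : PreservesColimitsOfSize.{0, 0} L := adj.leftAdjoint_preservesColimits
  have hz' : IsZero (L.obj (cokernel ψ)) :=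
    ((isZero_zero _).of_iso (cokernel.ofEpi (L.map ψ))).of_iso (PreservesCokernel.iso L ψ)
  let G := PresheafOfModules.toPresheaf R.obj ⋙ presheafToSheaf T AddCommGrpCat.{u}
  have hz : IsZero (G.obj (cokernel ψ)) := Functor.map_isZero (SheafOfModules.toSheaf R) hz'
  have : PreservesColimitsOfSize.{0, 0} (presheafToSheaf T AddCommGrpCat.{u}) :=
    (sheafificationAdjunction T AddCommGrpCat.{u}).leftAdjoint_preservesColimits
  have hG : Epi (G.map ψ) :=
    Preadditive.epi_of_isZero_cokernel (G.map ψ) (hz.of_iso (PreservesCokernel.iso G ψ).symm)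
  let F := SheafOfModules.toSheaf.{u} R
  have hF : Epi (F.map (L.map ψ)) := hG
  have hn' : F.map (L.map ψ) ≫ F.map cN = F.map cM ≫ F.map φ := by
    rw [← F.map_comp, ← F.map_comp, hn]
  have : Epi (F.map (L.map ψ) ≫ F.map cN) := inferInstance
  have : Epi (F.map cM ≫ F.map φ) := hn' ▸ this
  exact epi_of_epi (F.map cM) (F.map φ)

/-- An epimorphism of modules is surjective on sections locally. -/
lemma exists_locally_app_eq {M N : X.Modules} (φ : M ⟶ N) [Epi φ] (U : X.Opens) (s : Γ(N, U))
    (x : X) (hx : x ∈ U) :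
    ∃ (V : X.Opens) (h : V ≤ U), x ∈ V ∧ ∃ t : Γ(M, V), φ.app V t = res N h s := by
  have h : TopCat.Presheaf.IsLocallySurjective
      ((SheafOfModules.toSheaf.{u} X.ringCatSheaf).map φ).hom :=
    (TopCat.Sheaf.isLocallySurjective_iff_epi _).mpr
      (@epi_toSheaf_map _ _ _ X.ringCatSheaf _ _ φ ‹Epi φ›)
  obtain ⟨V, hV, ⟨t, ht⟩, hxV⟩ :=
    (TopCat.Presheaf.isLocallySurjective_iff _).mp h U s x hx
  exact ⟨V, hV, hxV, t, ht⟩

end Epi

section Cech

variable {U : X.Opens} (hU : IsAffineOpen U) (K : X.Modules) [K.IsQuasicoherent]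

include hU in
/-- Vanishing of Čech `H¹` of a quasi-coherent module for a standard cover of an affine open. -/
lemma exists_sub_eq_of_cocycle {ι : Type*} [Finite ι] (g : ι → Γ(X, U))
    (hg : U ≤ ⨆ i, X.basicOpen (g i))
    (c : ∀ i j, Γ(K, X.basicOpen (g i) ⊓ X.basicOpen (g j)))
    (hc : ∀ i k j,
      res K (inf_le_left : X.basicOpen (g i) ⊓ X.basicOpen (g k) ⊓ X.basicOpen (g j) ≤ _) (c i k) +
        res K (le_inf (inf_le_left.trans inf_le_right) inf_le_right) (c k j) =
      res K (le_inf (inf_le_left.trans inf_le_left) inf_le_right) (c i j)) :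
    ∃ e : ∀ i, Γ(K, X.basicOpen (g i)), ∀ i k,
      res K inf_le_left (e i) - res K inf_le_right (e k) = c i k := by
  cases nonempty_fintype ι
  let D := fun i ↦ X.basicOpen (g i)
  have hD (i) : D i ≤ U := X.basicOpen_le _
  have hD₂ (i k) : D i ⊓ D k ≤ U := inf_le_left.trans (hD i)
  have loc {A : X.Opens} (hA : IsAffineOpen A) (h : A ≤ U) (j : ι) :
      IsLocalizingOn K (inf_le_left : A ⊓ D j ≤ A) (rres h (g j)) := by
    have hW : A ⊓ D j = X.basicOpen (rres h (g j)) := (X.basicOpen_res _ _).symm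
    have h' := (IsLocalizingOn.congr_iff (h' := (inf_le_left : A ⊓ D j ≤ A)) rfl hW).mp
      (isLocalizingAt K hA (rres h (g j)))
    rwa [rres_self] at h'
  have aff (i) : IsAffineOpen (D i) := hU.basicOpen _
  have aff₂ (i k) : IsAffineOpen (D i ⊓ D k) := by
    rw [← X.basicOpen_mul]; exact hU.basicOpen _
  choose n d hd using fun i j ↦ (loc (aff i) (hD i) j).surj (c i j)
  obtain ⟨N, hN⟩ : ∃ N, ∀ i j, n i j ≤ N :=
    ⟨Finset.univ.sup fun p : ι × ι ↦ n p.1 p.2,
      fun i j ↦ Finset.le_sup (f := fun p : ι × ι ↦ n p.1 p.2) (Finset.mem_univ (i, j))⟩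
  let d' (i j) : Γ(K, D i) := (rres (hD i) (g j)) ^ (N - n i j) • d i j
  have hd' (i j) : res K inf_le_left (d' i j) = (rres (hD₂ i j) (g j)) ^ N • c i j := by
    simp only [d', res_smul, map_pow, rres_rres, hd, smul_smul, ← pow_add]
    rw [Nat.sub_add_cancel (hN i j)]
  let δ (i k j : ι) : Γ(K, D i ⊓ D k) :=
    res K inf_le_left (d' i j) - res K inf_le_right (d' k j) -
      (rres (hD₂ i k) (g j)) ^ N • c i k
  have hδ (i k j) : res K (inf_le_left : D i ⊓ D k ⊓ D j ≤ _) (δ i k j) = 0 := by
    have e₁ := congr(res K (le_inf (inf_le_left.trans inf_le_left) inf_le_right :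
      D i ⊓ D k ⊓ D j ≤ D i ⊓ D j) $(hd' i j))
    have e₂ := congr(res K (le_inf (inf_le_left.trans inf_le_right) inf_le_right :
      D i ⊓ D k ⊓ D j ≤ D k ⊓ D j) $(hd' k j))
    simp only [res_res, res_smul, map_pow, rres_rres] at e₁ e₂
    simp only [δ, map_sub, res_res, res_smul, map_pow, rres_rres, e₁, e₂, ← hc i k j, smul_add]
    abel
  choose m hm using fun i k j ↦ (loc (aff₂ i k) (hD₂ i k) j).eq_zero (δ i k j) (hδ i k j)
  obtain ⟨M, hM⟩ : ∃ M, ∀ i k j, m i k j ≤ M :=
    ⟨Finset.univ.sup fun p : ι × ι × ι ↦ m p.1 p.2.1 p.2.2,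
      fun i k j ↦ Finset.le_sup (f := fun p : ι × ι × ι ↦ m p.1 p.2.1 p.2.2)
        (Finset.mem_univ (i, k, j))⟩
  have hspan : Ideal.span (Set.range fun j ↦ g j ^ (M + N)) = ⊤ := by
    have h1 : Ideal.span (Set.range g) = ⊤ := by
      rw [← hU.self_le_iSup_basicOpen_iff]
      refine hg.trans (iSup_le fun i ↦ ?_)
      exact le_iSup_of_le ⟨g i, i, rfl⟩ le_rfl
    have := Ideal.span_pow_eq_top _ h1 (M + N)
    rwa [← Set.range_comp] at this
  obtain ⟨a, ha⟩ := Submodule.mem_span_range_iff_exists_fun (R := Γ(X, U)) |>.mp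
    ((Ideal.eq_top_iff_one _).mp hspan)
  refine ⟨fun i ↦ ∑ j, rres (hD i) (a j * g j ^ M) • d' i j, fun i k ↦ ?_⟩
  simp only [map_sum, res_smul, rres_rres, ← Finset.sum_sub_distrib, ← smul_sub]
  have key (j) : rres (hD₂ i k) (a j * g j ^ M) •
      (res K inf_le_left (d' i j) - res K inf_le_right (d' k j)) =
      rres (hD₂ i k) (a j * g j ^ (M + N)) • c i k := by
    have : (rres (hD₂ i k) (g j)) ^ M • δ i k j = 0 := by
      rw [← Nat.sub_add_cancel (hM i k j), pow_add, mul_smul, hm, smul_zero]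
    simp only [δ] at this
    rw [smul_sub, sub_eq_zero] at this
    rw [map_mul, map_mul, map_pow, map_pow, mul_smul, mul_smul, this, pow_add, mul_smul]
  rw [Finset.sum_congr rfl fun j _ ↦ key j, ← Finset.sum_smul, ← map_sum]
  rw [show ∑ j, a j * g j ^ (M + N) = 1 by simpa using ha, map_one, one_smul]

include hU in
/-- Sections over an affine open are exact for short exact sequences with quasi-coherent kernel. -/
theorem app_surjective_of_shortExact (S : ShortComplex X.Modules) (hS : S.ShortExact)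
    [S.X₁.IsQuasicoherent] : Function.Surjective (S.g.app U) := by
  intro s
  have := hS.mono_f
  have := hS.epi_g
  choose V hV hxV t ht using fun x : U ↦ exists_locally_app_eq S.g U s x.1 x.2
  choose f hf hxf using fun x : U ↦ hU.exists_basicOpen_le ⟨x.1, hxV x⟩ x.2
  obtain ⟨σ, hσ⟩ := hU.isCompact.elim_finite_subcover (fun x : U ↦ (X.basicOpen (f x) : Set X))
    (fun x ↦ (X.basicOpen (f x)).isOpen) fun x hx ↦ Set.mem_iUnion.mpr ⟨⟨x, hx⟩, hxf ⟨x, hx⟩⟩
  let g : σ → Γ(X, U) := fun i ↦ f i
  let D := fun i ↦ X.basicOpen (g i)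
  have hg : U ≤ ⨆ i, D i := fun x hx ↦ by
    obtain ⟨i, hi, hxi⟩ := Set.mem_iUnion₂.mp (hσ hx)
    exact Opens.mem_iSup.mpr ⟨⟨i, hi⟩, hxi⟩
  let t' : ∀ i, Γ(S.X₂, D i) := fun i ↦ res S.X₂ (hf i) (t i)
  have ht' (i) : S.g.app (D i) (t' i) = res S.X₃ (X.basicOpen_le _) s := by
    simp only [t', app_res, ht, res_res]
  choose c hc using fun i j ↦ exists_app_eq_of_app_eq_zero S hS.exact (D i ⊓ D j)
    (res S.X₂ inf_le_left (t' i) - res S.X₂ inf_le_right (t' j))
    (by simp only [map_sub, app_res, ht', res_res, sub_self])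
  obtain ⟨e, he⟩ := exists_sub_eq_of_cocycle hU S.X₁ g hg c fun i k j ↦ by
    apply app_injective_of_mono S.f
    simp only [map_add, app_res]
    erw [hc, hc, hc]
    simp only [map_sub, res_res]
    abel
  obtain ⟨u, hu⟩ := exists_glue S.X₂ (fun i ↦ X.basicOpen_le (g i)) hg
    (fun i ↦ t' i - S.f.app (D i) (e i)) fun i j ↦ by
      rw [map_sub, map_sub, ← app_res, ← app_res, sub_eq_sub_iff_sub_eq_sub, ← map_sub, he, hc]
  refine ⟨u, eq_of_locally_eq S.X₃ (fun i ↦ X.basicOpen_le (g i)) hg _ _ fun i ↦ ?_⟩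
  rw [← app_res, hu, map_sub, app_app_eq_zero, sub_zero, ht']

end Cech

section Closure

variable (S : ShortComplex X.Modules)

/-- A kernel of a map between quasi-coherent modules is quasi-coherent. -/
theorem isQuasicoherent_X₁ (hS : S.Exact) [Mono S.f] [S.X₂.IsQuasicoherent]
    [S.X₃.IsQuasicoherent] : S.X₁.IsQuasicoherent := by
  rw [isQuasicoherent_iff_forall_isAffineOpen]
  intro U hU f
  refine ⟨fun s ↦ ?_, fun t ht ↦ ?_⟩
  · obtain ⟨n, t, ht⟩ := (isLocalizingAt S.X₂ hU f).surj (S.f.app _ s)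
    obtain ⟨m, hm⟩ := (isLocalizingAt S.X₃ hU f).eq_zero (S.g.app U t) (by
      rw [← app_res, ht, Scheme.Modules.Hom.app_smul, app_app_eq_zero, smul_zero])
    rw [← Scheme.Modules.Hom.app_smul] at hm
    obtain ⟨y, hy⟩ := exists_app_eq_of_app_eq_zero S hS U _ hm
    refine ⟨m + n, y, app_injective_of_mono S.f _ ?_⟩
    rw [app_res, hy, res_smul, ht, Scheme.Modules.Hom.app_smul, map_pow, smul_smul, ← pow_add]
  · obtain ⟨n, hn⟩ := (isLocalizingAt S.X₂ hU f).eq_zero (S.f.app U t)
      (by rw [← app_res, ht, map_zero])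
    refine ⟨n, app_injective_of_mono S.f _ ?_⟩
    rw [Scheme.Modules.Hom.app_smul, hn, map_zero]

/-- An extension of quasi-coherent modules is quasi-coherent. -/
theorem isQuasicoherent_X₂ (hS : S.ShortExact) [S.X₁.IsQuasicoherent]
    [S.X₃.IsQuasicoherent] : S.X₂.IsQuasicoherent := by
  have := hS.mono_f
  rw [isQuasicoherent_iff_forall_isAffineOpen]
  intro U hU f
  refine ⟨fun s ↦ ?_, fun t ht ↦ ?_⟩
  · obtain ⟨n, v, hv⟩ := (isLocalizingAt S.X₃ hU f).surj (S.g.app _ s)
    obtain ⟨t, rfl⟩ := app_surjective_of_shortExact hU S hS v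
    obtain ⟨y, hy⟩ := exists_app_eq_of_app_eq_zero S hS.exact _
      ((rres (X.basicOpen_le f) f) ^ n • s - res S.X₂ (X.basicOpen_le f) t) (by
        rw [map_sub, Scheme.Modules.Hom.app_smul, app_res, hv, sub_self])
    obtain ⟨m, k, hk⟩ := (isLocalizingAt S.X₁ hU f).surj y
    refine ⟨m + n, f ^ m • t + S.f.app U k, ?_⟩
    rw [map_add, res_smul, ← app_res, hk, Scheme.Modules.Hom.app_smul, hy, map_pow, smul_sub,
      smul_smul, ← pow_add, add_sub_cancel]
  · obtain ⟨n, hn⟩ := (isLocalizingAt S.X₃ hU f).eq_zero (S.g.app U t)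
      (by rw [← app_res, ht, map_zero])
    rw [← Scheme.Modules.Hom.app_smul] at hn
    obtain ⟨y, hy⟩ := exists_app_eq_of_app_eq_zero S hS.exact U _ hn
    obtain ⟨m, hm⟩ := (isLocalizingAt S.X₁ hU f).eq_zero y (app_injective_of_mono S.f _ (by
      rw [app_res, hy, res_smul, ht, smul_zero, map_zero]))
    refine ⟨m + n, ?_⟩
    rw [pow_add, mul_smul, ← hy, ← Scheme.Modules.Hom.app_smul, hm, map_zero]

/-- Kernels of maps of quasi-coherent modules are quasi-coherent. -/
instance isQuasicoherent_kernel {M N : X.Modules} (φ : M ⟶ N) [M.IsQuasicoherent]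
    [N.IsQuasicoherent] : (kernel φ).IsQuasicoherent :=
  @isQuasicoherent_X₁ _ (ShortComplex.mk (kernel.ι φ) φ (kernel.condition φ))
    (ShortComplex.exact_of_f_is_kernel _ (kernelIsKernel φ)) (inferInstanceAs <| Mono (kernel.ι φ))
    ‹_› ‹_›

section Colimit

variable {J : Type w} [Category.{w'} J]

/-- A colimit of quasi-coherent modules on `Spec R` is quasi-coherent. -/
lemma isQuasicoherent_colimit_Spec {R : CommRingCat.{u}} (F : J ⥤ (Spec R).Modules)
    [∀ j, (F.obj j).IsQuasicoherent] [HasColimit F]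
    [HasColimitsOfShape J (ModuleCat.{u} R)] : (colimit F).IsQuasicoherent := by
  let G := F ⋙ moduleSpecΓFunctor (R := R)
  have hiso : ∀ j, IsIso (Scheme.Modules.fromTildeΓ (F.obj j)) := fun j ↦
    Scheme.Modules.isIso_fromTildeΓ_of_isQuasicoherent (F.obj j)
  let e : G ⋙ tilde.functor R ≅ F := NatIso.ofComponents
    (fun j ↦ @asIso _ _ _ _ (Scheme.Modules.fromTildeΓ (F.obj j)) (hiso j))
    (fun h ↦ Scheme.Modules.fromTildeΓNatTrans.naturality (F.map h))
  have : HasColimit (G ⋙ tilde.functor R) := hasColimit_of_iso e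
  have : (tilde (colimit G)).IsQuasicoherent := inferInstance
  exact @isQuasicoherent_of_iso _ (tilde (colimit G)) _ (preservesColimitIso (tilde.functor R) G ≪≫
    HasColimit.isoOfNatIso e) this

/-- A colimit of quasi-coherent modules is quasi-coherent. -/
theorem isQuasicoherent_colimit (F : J ⥤ X.Modules) [∀ j, (F.obj j).IsQuasicoherent]
    [HasColimitsOfShape J X.Modules]
    [∀ R : CommRingCat.{u}, HasColimitsOfShape J (ModuleCat.{u} R)]
    [∀ Y : Scheme.{u}, HasColimitsOfShape J Y.Modules] : (colimit F).IsQuasicoherent := by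
  refine isQuasicoherent_of_forall_exists _ fun x ↦ ?_
  obtain ⟨_, ⟨U, hU, rfl⟩, hxU, -⟩ := X.isBasis_affineOpens.exists_subset_of_mem_open
    (Set.mem_univ x) isOpen_univ
  have hU : IsAffineOpen U := hU
  refine ⟨U, hU, hxU, ?_⟩
  let F' := F ⋙ Scheme.Modules.restrictFunctor hU.fromSpec
  have hF' : ∀ j, (F'.obj j).IsQuasicoherent := fun j ↦
    Scheme.Modules.isQuasicoherent_restrictFunctor hU.fromSpec (F.obj j)
  have := isQuasicoherent_colimit_Spec F'
  exact isQuasicoherent_of_iso (preservesColimitIso (Scheme.Modules.restrictFunctor hU.fromSpec) F).symm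

end Colimit

/-- Cokernels of maps of quasi-coherent modules are quasi-coherent. -/
instance isQuasicoherent_cokernel {M N : X.Modules} (φ : M ⟶ N) [M.IsQuasicoherent]
    [N.IsQuasicoherent] : (cokernel φ).IsQuasicoherent := by
  have : ∀ j, ((parallelPair φ 0).obj j).IsQuasicoherent := fun j ↦ by
    cases j <;> assumption
  exact isQuasicoherent_colimit (parallelPair φ 0)

instance isQuasicoherent_coproduct {ι : Type u} (M : ι → X.Modules)
    [∀ i, (M i).IsQuasicoherent] : (∐ M).IsQuasicoherent := by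
  have : ∀ j, ((Discrete.functor M).obj j).IsQuasicoherent := fun j ↦
    inferInstanceAs (M j.as).IsQuasicoherent
  exact isQuasicoherent_colimit (Discrete.functor M)

/-- An epimorphism of quasi-coherent modules is surjective on sections over affine opens. -/
theorem app_surjective_of_epi {M N : X.Modules} (φ : M ⟶ N) [Epi φ] [M.IsQuasicoherent]
    [N.IsQuasicoherent] {U : X.Opens} (hU : IsAffineOpen U) : Function.Surjective (φ.app U) := by
  let S := ShortComplex.mk (kernel.ι φ) φ (kernel.condition φ)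
  have hS : S.ShortExact :=
    { exact := ShortComplex.exact_of_f_is_kernel _ (kernelIsKernel φ) }
  have : S.X₁.IsQuasicoherent := isQuasicoherent_kernel φ
  exact app_surjective_of_shortExact hU S hS

/-- Images of maps of quasi-coherent modules are quasi-coherent. -/
instance isQuasicoherent_image {M N : X.Modules} (φ : M ⟶ N) [M.IsQuasicoherent]
    [N.IsQuasicoherent] : (Abelian.image φ).IsQuasicoherent :=
  isQuasicoherent_kernel _

end Closure

end Groth.Agent.QCoh

end
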