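import Groth.Agent.QCoh.Basic
import Mathlib.Algebra.Category.ModuleCat.Sheaf.PullbackFree

/-!
# Pullback of quasi-coherent modules
-/

universe u

open CategoryTheory Limits AlgebraicGeometry Opposite TopologicalSpace

noncomputable section

namespace Groth.Agent.QCoh

variable {X Y : Scheme.{u}}

/-- The inverse image functor on opens is final (both posets have a top, which is preserved). -/
instance final_opensMap (f : X ⟶ Y) : (Opens.map f.base).Final where
  out V := by
    let top : StructuredArrow V (Opens.map f.base) :=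
      StructuredArrow.mk (Y := ⊤) (homOfLE (show V ≤ (Opens.map f.base).obj ⊤ from fun _ _ ↦ trivial))
    have : Nonempty (StructuredArrow V (Opens.map f.base)) := ⟨top⟩
    refine zigzag_isConnected fun a b ↦ ?_
    exact (Zigzag.of_hom (StructuredArrow.homMk (homOfLE le_top) (Subsingleton.elim _ _) :
      a ⟶ top)).trans (Zigzag.of_inv (StructuredArrow.homMk (homOfLE le_top)
        (Subsingleton.elim _ _) : b ⟶ top))

set_option backward.isDefEq.respectTransparency.types false in
/-- `f^* O_Y ≅ O_X`. -/
def pullbackUnitIso (f : X ⟶ Y) :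
    (Scheme.Modules.pullback f).obj (SheafOfModules.unit Y.ringCatSheaf) ≅
      SheafOfModules.unit X.ringCatSheaf :=
  have : (SheafOfModules.pushforward.{u} f.toRingCatSheafHom).IsRightAdjoint :=
    (Scheme.Modules.pullbackPushforwardAdjunction f).isRightAdjoint
  have : (Opens.map f.base).Final := final_opensMap f
  have h : IsIso (SheafOfModules.pullbackObjUnitToUnit.{u} f.toRingCatSheafHom) := inferInstance
  @asIso _ _ _ _ (SheafOfModules.pullbackObjUnitToUnit.{u} f.toRingCatSheafHom) h

/-- A presentation pulls back to a presentation. -/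
def presentationPullback (f : X ⟶ Y) {M : Y.Modules} (P : M.Presentation) :
    ((Scheme.Modules.pullback f).obj M).Presentation :=
  let F : SheafOfModules.{u} Y.ringCatSheaf ⥤ SheafOfModules.{u} X.ringCatSheaf :=
    Scheme.Modules.pullback f
  have : PreservesColimitsOfSize.{u, u} F :=
    (Scheme.Modules.pullbackPushforwardAdjunction f).leftAdjoint_preservesColimits
  P.map F (pullbackUnitIso f).symm

/-- `(g^* M)|_W` for `W` an affine open inside `g⁻¹ U`, computed on the spectra. -/
def toSpecPullbackIso (g : X ⟶ Y) (M : Y.Modules) {U : Y.Opens} (hU : IsAffineOpen U)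
    {W : X.Opens} (hW : IsAffineOpen W) (h : W ≤ g ⁻¹ᵁ U) :
    toSpec hW ((Scheme.Modules.pullback g).obj M) ≅
      (Scheme.Modules.pullback (Spec.map (g.appLE U W h))).obj (toSpec hU M) :=
  have := hU.isOpenImmersion_fromSpec
  have := hW.isOpenImmersion_fromSpec
  (Scheme.Modules.restrictFunctorIsoPullback hW.fromSpec).app _ ≪≫
    (Scheme.Modules.pullbackComp hW.fromSpec g).app M ≪≫
    (Scheme.Modules.pullbackCongr (IsAffineOpen.SpecMap_appLE_fromSpec g hU hW h).symm).app M ≪≫
    ((Scheme.Modules.pullbackComp (Spec.map (g.appLE U W h)) hU.fromSpec).app M).symm ≪≫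
    (Scheme.Modules.pullback _).mapIso
      ((Scheme.Modules.restrictFunctorIsoPullback hU.fromSpec).app M).symm

set_option maxHeartbeats 800000 in
/-- Pullback preserves quasi-coherence. -/
theorem isQuasicoherent_pullback (g : X ⟶ Y) (M : Y.Modules) [M.IsQuasicoherent] :
    ((Scheme.Modules.pullback g).obj M).IsQuasicoherent := by
  refine isQuasicoherent_of_forall_exists _ fun x ↦ ?_
  obtain ⟨_, ⟨U, hU, rfl⟩, hgU, -⟩ := Y.isBasis_affineOpens.exists_subset_of_mem_open
    (Set.mem_univ (g x)) isOpen_univ
  obtain ⟨_, ⟨W, hW, rfl⟩, hxW, hWU⟩ := X.isBasis_affineOpens.exists_subset_of_mem_open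
    (show x ∈ g ⁻¹ᵁ U from hgU) (g ⁻¹ᵁ U).2
  refine ⟨W, hW, hxW, ?_⟩
  have hN : (toSpec hU M).IsQuasicoherent :=
    (isQuasicoherent_toSpec_iff hU M).mpr fun f ↦ isLocalizingAt M hU f
  have := Scheme.Modules.isIso_fromTildeΓ_of_isQuasicoherent (toSpec hU M)
  let P : (toSpec hU M).Presentation := presentationOfIso (asIso (toSpec hU M).fromTildeΓ)
    (presentationTilde.{u} _ .univ (by simp) _ (Submodule.span_eq _))
  let Q : (toSpec hW ((Scheme.Modules.pullback g).obj M)).Presentation :=
    presentationOfIso (toSpecPullbackIso g M hU hW hWU).symm (presentationPullback _ P)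
  exact SheafOfModules.Presentation.isQuasicoherent.{u} Q

instance (g : X ⟶ Y) (M : Y.Modules) [M.IsQuasicoherent] :
    ((Scheme.Modules.pullback g).obj M).IsQuasicoherent :=
  isQuasicoherent_pullback g M

end Groth.Agent.QCoh

end
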