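import Groth.Agent.QCoh.Exact
import Groth.Agent.QCoh.Pullback
import Mathlib.RingTheory.Finiteness.Basic
import Mathlib.Algebra.Category.ModuleCat.Sheaf.LocallyFree

/-!
# Quasi-coherent modules of finite type
-/

universe u

open CategoryTheory Limits AlgebraicGeometry Opposite TopologicalSpace

noncomputable section

namespace Groth.Agent.QCoh

variable {X Y : Scheme.{u}}

section Affine

variable {U : X.Opens} (hU : IsAffineOpen U) (M : X.Modules)

/-- The global sections of `toSpec hU M` are the sections of `M` over `U`. -/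
def toSpecTopEquiv : Γ(toSpec hU M, ⊤) ≃+ Γ(M, U) :=
  (M.restrictAppIso hU.fromSpec ⊤ ≪≫
    M.presheaf.mapIso (eqToIso (fromSpec_image_top hU).symm).op).addCommGroupIsoToAddEquiv

lemma toSpecTopEquiv_apply (x : Γ(toSpec hU M, ⊤)) :
    toSpecTopEquiv hU M x =
      res M (fromSpec_image_top hU).ge ((M.restrictAppIso hU.fromSpec ⊤).hom x) := rfl

lemma toSpecTopEquiv_smul (r : Γ(X, U)) (x : Γ(toSpec hU M, ⊤)) :
    toSpecTopEquiv hU M (r • x) = r • toSpecTopEquiv hU M x := by
  rw [toSpecTopEquiv_apply, toSpecTopEquiv_apply, Scheme.Modules.smul_Spec_def]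
  erw [restrict_smul, res_smul]
  congr 1
  have : ((Spec Γ(X, U)).presheaf.map (⊤ : (Spec Γ(X, U)).Opens).leTop.op)
      ((Scheme.ΓSpecIso Γ(X, U)).inv r) = (Scheme.ΓSpecIso Γ(X, U)).inv r :=
    rres_self le_top _
  erw [this, appIso_inv_ΓSpecIso_inv hU r, rres_rres, rres_self]

/-- `toSpecTopEquiv` as a linear equivalence. -/
def toSpecTopLinearEquiv : Γ(toSpec hU M, ⊤) ≃ₗ[Γ(X, U)] Γ(M, U) :=
  { toSpecTopEquiv hU M with map_smul' := toSpecTopEquiv_smul hU M }

lemma finite_toSpec_iff :
    Module.Finite Γ(X, U) Γ(toSpec hU M, ⊤) ↔ Module.Finite Γ(X, U) Γ(M, U) :=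
  Module.Finite.equiv_iff (toSpecTopLinearEquiv hU M)

end Affine

/-- Transport generating sections along an isomorphism. -/
def generatorsOfIso {Z : Scheme.{u}} {M N : Z.Modules} (e : M ≅ N) (P : M.GeneratingSections) :
    N.GeneratingSections :=
  letI e' : @Iso (SheafOfModules.{u} Z.ringCatSheaf) _ M N := e
  @SheafOfModules.GeneratingSections.ofEpi.{u} _ _ _ _ _ _ _ _ P e'.hom
    (@IsIso.epi_of_iso _ _ _ _ e'.hom (Iso.isIso_hom e'))

lemma isFiniteType_generatorsOfIso {Z : Scheme.{u}} {M N : Z.Modules} (e : M ≅ N)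
    (P : M.GeneratingSections) (hP : Finite P.I) : Finite (generatorsOfIso e P).I := hP

section Spec

variable {R : CommRingCat.{u}} (N : (Spec R).Modules)

/-- The epimorphism from a finite free module given by finitely many generators. -/
theorem exists_generators_of_finite [N.IsQuasicoherent] [Module.Finite R Γ(N, ⊤)] :
    ∃ G : N.GeneratingSections, Finite G.I := by
  let Γ₀ : ModuleCat.{u} R := (modulesSpecToSheaf.obj N).presheaf.obj (.op ⊤)
  have : Module.Finite R Γ₀ := ‹Module.Finite R Γ(N, ⊤)›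
  obtain ⟨s, hs⟩ := Module.Finite.fg_top (R := R) (M := Γ₀)
  let l : (↥(s : Set Γ₀) →₀ R) →ₗ[R] Γ₀ := Finsupp.linearCombination R (↑)
  have hl : Function.Surjective l := by
    rw [← LinearMap.range_eq_top, Finsupp.range_linearCombination, Subtype.range_coe]
    exact hs
  have : Epi (ModuleCat.ofHom l) := (ModuleCat.epi_iff_surjective _).mpr hl
  have : IsIso N.fromTildeΓ := Scheme.Modules.isIso_fromTildeΓ_of_isQuasicoherent N
  let p : (SheafOfModules.free.{u} ↥(s : Set Γ₀) : (Spec R).Modules) ⟶ N :=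
    (tildeFinsupp _).inv ≫ (tilde.functor R).map (ModuleCat.ofHom l) ≫ N.fromTildeΓ
  have : Epi ((tilde.functor R).map (ModuleCat.ofHom l)) := inferInstance
  have hi : Epi N.fromTildeΓ := @IsIso.epi_of_iso _ _ _ _ N.fromTildeΓ (by assumption)
  have h₂ : Epi ((tilde.functor R).map (ModuleCat.ofHom l) ≫ N.fromTildeΓ) :=
    @epi_comp _ _ _ _ _ ((tilde.functor R).map (ModuleCat.ofHom l)) (by assumption)
      N.fromTildeΓ hi
  have h₀ : Epi (tildeFinsupp (R := R) ↥(s : Set Γ₀)).inv :=
    @IsIso.epi_of_iso _ _ _ _ _ (Iso.isIso_inv _)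
  have hp : Epi p := @epi_comp _ _ _ _ _ _ h₀ _ h₂
  let p' : @Quiver.Hom (SheafOfModules.{u} (Spec R).ringCatSheaf) _
    (SheafOfModules.free.{u} ↥(s : Set Γ₀)) N := p
  have : Epi p' := hp
  exact ⟨(SheafOfModules.free.generatingSections _).ofEpi p', inferInstanceAs (Finite ↥(s : Set Γ₀))⟩

/-- Finitely many generators give finitely generated global sections. -/
theorem finite_of_generators [N.IsQuasicoherent] (G : N.GeneratingSections) [Finite G.I] :
    Module.Finite R Γ(N, ⊤) := by
  let F : (Spec R).Modules := SheafOfModules.free.{u} G.I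
  let p : F ⟶ N := G.π
  have : Epi p := G.epi
  let q : (tilde.functor R).obj (ModuleCat.of R (G.I →₀ R)) ⟶ N := (tildeFinsupp G.I).hom ≫ p
  have h₀ : Epi (tildeFinsupp (R := R) G.I).hom :=
    @IsIso.epi_of_iso _ _ _ _ _ (Iso.isIso_hom _)
  have : Epi q := @epi_comp _ _ _ _ _ _ h₀ _ (by assumption)
  have : ((tilde.functor R).obj (ModuleCat.of R (G.I →₀ R))).IsQuasicoherent := inferInstance
  have hs := app_surjective_of_epi q (isAffineOpen_top (Spec R))
  let g := tilde.toOpen (ModuleCat.of R (G.I →₀ R)) ⊤ ≫ (moduleSpecΓFunctor (R := R)).map q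
  have hg : Function.Surjective g :=
    hs.comp (ConcreteCategory.bijective_of_isIso (tilde.toOpen (ModuleCat.of R (G.I →₀ R)) ⊤)).2
  exact Module.Finite.of_surjective g.hom hg

end Spec

section Over

variable (M : X.Modules) (U : X.Opens)

/-- Generators of `M.restrict U.ι` give generators of `M.over U`. -/
def generatorsOver (P : (M.restrict U.ι).GeneratingSections) : (M.over U).GeneratingSections :=
  let E := Scheme.Modules.overEquiv U
  let η : SheafOfModules.unit.{u} _ ≅ E.inverse.obj (SheafOfModules.unit.{u} _) :=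
    (U.sheafOfModulesEquivOverInverseUnit X.ringCatSheaf).symm
  let F : SheafOfModules.{u} U.toScheme.ringCatSheaf ⥤ SheafOfModules.{u} (X.ringCatSheaf.over U) :=
    E.inverse
  have : PreservesColimitsOfSize.{u, u} F := E.symm.toAdjunction.leftAdjoint_preservesColimits
  let e : F.obj (M.restrict U.ι) ≅ M.over U :=
    E.inverse.mapIso ((Scheme.Modules.overFunctorEquiv U).app M).symm ≪≫
      (E.unitIso.app (M.over U)).symm
  (P.map F η).ofEpi e.hom

/-- Generators of `M.over U` give generators of `M.restrict U.ι`. -/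
def generatorsRestrict (P : (M.over U).GeneratingSections) :
    (M.restrict U.ι).GeneratingSections :=
  let E := Scheme.Modules.overEquiv U
  let F : SheafOfModules.{u} (X.ringCatSheaf.over U) ⥤ SheafOfModules.{u} U.toScheme.ringCatSheaf :=
    E.functor
  have : PreservesColimitsOfSize.{u, u} F := E.toAdjunction.leftAdjoint_preservesColimits
  generatorsOfIso ((Scheme.Modules.overFunctorEquiv U).app M)
    (P.map F (U.sheafOfModulesEquivOverUnit X.ringCatSheaf).symm)

/-- Generators pulled back along an open immersion. -/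
def generatorsRestrictAlong {Z : Scheme.{u}} (j : Z ⟶ X) [IsOpenImmersion j] {M : X.Modules}
    (P : M.GeneratingSections) : (M.restrict j).GeneratingSections :=
  let F : SheafOfModules.{u} X.ringCatSheaf ⥤ SheafOfModules.{u} Z.ringCatSheaf :=
    Scheme.Modules.restrictFunctor j
  have : PreservesColimitsOfSize.{u, u} F :=
    (Scheme.Modules.restrictAdjunction j).leftAdjoint_preservesColimits
  P.map F (Scheme.Modules.restrictUnitIso j).symm

end Over

/-- Finiteness of sections over affine opens is local. -/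
theorem finite_sections_of_local (M : X.Modules) [M.IsQuasicoherent] {U : X.Opens}
    (hU : IsAffineOpen U)
    (H : ∀ x ∈ U, ∃ g : Γ(X, U), x ∈ X.basicOpen g ∧
      Module.Finite Γ(X, X.basicOpen g) Γ(M, X.basicOpen g)) :
    Module.Finite Γ(X, U) Γ(M, U) := by
  classical
  choose g hxg hfin using fun x : U ↦ H x.1 x.2
  obtain ⟨σ, hσ⟩ := hU.isCompact.elim_finite_subcover (fun x : U ↦ (X.basicOpen (g x) : Set X))
    (fun x ↦ (X.basicOpen (g x)).isOpen) fun x hx ↦ Set.mem_iUnion.mpr ⟨⟨x, hx⟩, hxg ⟨x, hx⟩⟩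
  choose S hS using fun x : U ↦ (hfin x).fg_top
  choose n t ht using fun (x : U) (s : Γ(M, X.basicOpen (g x))) ↦
    (isLocalizingAt M hU (g x)).surj s
  let T : Finset Γ(M, U) := σ.biUnion fun x ↦ (S x).image (t x)
  refine ⟨⟨T, eq_top_iff.mpr fun m _ ↦ ?_⟩⟩
  let N := Submodule.span Γ(X, U) (T : Set Γ(M, U))
  let I : Ideal Γ(X, U) := N.colon {m}
  suffices (1 : Γ(X, U)) ∈ I by simpa [I, Submodule.mem_colon_singleton] using this
  have key (x : σ) : ∃ L : ℕ, g x ^ L ∈ I := by
    have P (y : Γ(M, X.basicOpen (g x.1))) : ∃ L, ∃ v ∈ N,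
        res M (X.basicOpen_le _) v = rres (X.basicOpen_le (g x)) (g x) ^ L • y := by
      have hy : y ∈ Submodule.span Γ(X, X.basicOpen (g x.1))
          (S x.1 : Set Γ(M, X.basicOpen (g x.1))) := by rw [hS]; trivial
      induction hy using Submodule.span_induction with
      | mem y hy =>
        exact ⟨n x.1 y, t x.1 y, Submodule.subset_span (Finset.mem_biUnion.mpr
          ⟨x.1, x.2, Finset.mem_image_of_mem _ hy⟩), ht x.1 y⟩
      | zero => exact ⟨0, 0, zero_mem _, by simp⟩
      | add y z _ _ hy hz =>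
        obtain ⟨L₁, v₁, hv₁, e₁⟩ := hy
        obtain ⟨L₂, v₂, hv₂, e₂⟩ := hz
        refine ⟨L₁ + L₂, g x.1 ^ L₂ • v₁ + g x.1 ^ L₁ • v₂,
          add_mem (N.smul_mem _ hv₁) (N.smul_mem _ hv₂), ?_⟩
        rw [map_add, res_smul, res_smul, e₁, e₂, map_pow, map_pow, smul_smul, smul_smul,
          ← pow_add, ← pow_add, add_comm L₂, smul_add]
      | smul c y _ hy =>
        obtain ⟨L, v, hv, e⟩ := hy
        obtain ⟨l, a, ha⟩ :=
          exists_eq_pow_mul_of_isAffineOpen X U hU (g x.1) c
        refine ⟨l + L, a • v, N.smul_mem _ hv, ?_⟩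
        rw [res_smul, e, smul_smul, smul_smul, pow_add, mul_right_comm]
        exact congr_arg (fun r ↦ (r * rres (X.basicOpen_le (g x.1)) (g x.1) ^ L) • y) ha
    obtain ⟨L, v, hv, e⟩ := P (res M (X.basicOpen_le _) m)
    obtain ⟨K, hK⟩ := (isLocalizingAt M hU (g x.1)).eq_zero (g x.1 ^ L • m - v) (by
      rw [map_sub, res_smul, map_pow, e, sub_self])
    refine ⟨K + L, Submodule.mem_colon_singleton.mpr ?_⟩
    rw [smul_sub, sub_eq_zero, smul_smul, ← pow_add] at hK
    rw [hK]
    exact N.smul_mem _ hv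
  choose L hL using key
  obtain ⟨B, hB⟩ : ∃ B, ∀ x, L x ≤ B := (Finite.exists_le L).imp fun B hB x ↦ hB x
  have h1 : Ideal.span (Set.range fun x : σ ↦ g x.1) = ⊤ := by
    rw [← hU.self_le_iSup_basicOpen_iff]
    intro y hy
    obtain ⟨i, hi, hyi⟩ := Set.mem_iUnion₂.mp (hσ hy)
    exact Opens.mem_iSup.mpr ⟨⟨g i, ⟨i, hi⟩, rfl⟩, hyi⟩
  have h2 := Ideal.span_pow_eq_top _ h1 B
  rw [← Set.range_comp] at h2
  refine (le_of_eq h2.symm).trans ?_ trivial
  rw [Ideal.span_le]
  rintro _ ⟨x, rfl⟩
  exact Ideal.pow_mem_of_pow_mem I (hL x) (hB x)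

/-- An affine open inside an open on which `M` has finitely many generators has finitely
generated sections. -/
theorem finite_sections_of_generators (M : X.Modules) [M.IsQuasicoherent] {W : X.Opens}
    (G : (M.restrict W.ι).GeneratingSections) [Finite G.I] {U : X.Opens} (hU : IsAffineOpen U)
    (hUW : U ≤ W) : Module.Finite Γ(X, U) Γ(M, U) := by
  have := hU.isOpenImmersion_fromSpec
  let t := IsOpenImmersion.lift W.ι hU.fromSpec
    (by rw [hU.range_fromSpec, Scheme.Opens.range_ι]; exact hUW)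
  have : IsOpenImmersion t := by
    have : IsOpenImmersion (t ≫ W.ι) := by rw [IsOpenImmersion.lift_fac]; assumption
    exact IsOpenImmersion.of_comp t W.ι
  let G' : (toSpec hU M).GeneratingSections :=
    generatorsOfIso (((Scheme.Modules.restrictFunctorComp t W.ι).symm ≪≫
      Scheme.Modules.restrictFunctorCongr (IsOpenImmersion.lift_fac _ _ _)).app M)
      (generatorsRestrictAlong t G)
  have : Finite G'.I := ‹Finite G.I›
  have : (toSpec hU M).IsQuasicoherent := Scheme.Modules.isQuasicoherent_restrictFunctor _ M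
  exact (finite_toSpec_iff hU M).mp (finite_of_generators (toSpec hU M) G')

/-- Quasi-coherent finite type modules have finitely generated sections on affine opens. -/
theorem finite_sections_of_isFiniteType (M : X.Modules) [M.IsQuasicoherent]
    [SheafOfModules.IsFiniteType.{u} M] {U : X.Opens} (hU : IsAffineOpen U) :
    Module.Finite Γ(X, U) Γ(M, U) := by
  obtain ⟨σ, hσ⟩ := SheafOfModules.IsFiniteType.exists_localGeneratorsData.{u} M
  refine finite_sections_of_local M hU fun x hx ↦ ?_
  have hc := (Opens.coversTop_iff (U := σ.X)).mp σ.coversTop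
  obtain ⟨i, hi⟩ := Opens.mem_iSup.mp (hc.ge (trivial : x ∈ (⊤ : X.Opens)))
  obtain ⟨g, hgle, hxg⟩ := hU.exists_basicOpen_le ⟨x, hi⟩ hx
  have : Finite (generatorsRestrict M (σ.X i) (σ.generators i)).I := (hσ.isFiniteType i).finite
  exact ⟨g, hxg, finite_sections_of_generators M
    (generatorsRestrict M (σ.X i) (σ.generators i)) (hU.basicOpen g) hgle⟩

/-- Finite type can be checked on an affine cover. -/
theorem isFiniteType_of_forall_exists (M : X.Modules) [M.IsQuasicoherent]
    (H : ∀ x : X, ∃ U : X.Opens, IsAffineOpen U ∧ x ∈ U ∧ Module.Finite Γ(X, U) Γ(M, U)) :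
    SheafOfModules.IsFiniteType.{u} M := by
  choose U hU hxU hfin using H
  have hG (x : X) : ∃ G : (M.over (U x)).GeneratingSections, Finite G.I := by
    have := hfin x
    have := (finite_toSpec_iff (hU x) M).mpr this
    have : (toSpec (hU x) M).IsQuasicoherent :=
      Scheme.Modules.isQuasicoherent_restrictFunctor _ M
    obtain ⟨G, hG⟩ := exists_generators_of_finite (toSpec (hU x) M)
    have := (hU x).isOpenImmersion_fromSpec
    let e : Scheme.Modules.restrictFunctor (hU x).fromSpec ⋙ Scheme.Modules.restrictFunctor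
        (hU x).isoSpec.hom ≅ Scheme.Modules.restrictFunctor (U x).ι :=
      (Scheme.Modules.restrictFunctorComp _ _).symm ≪≫
        Scheme.Modules.restrictFunctorCongr (hU x).isoSpec_hom_fromSpec
    exact ⟨generatorsOver M (U x) (generatorsOfIso (e.app M)
      (generatorsRestrictAlong (hU x).isoSpec.hom G)), hG⟩
  choose G hG using hG
  let σ : SheafOfModules.LocalGeneratorsData.{u} M :=
    { I := X
      X := U
      coversTop := (Opens.coversTop_iff (U := U)).mpr (top_le_iff.mp fun x _ ↦
        Opens.mem_iSup.mpr ⟨x, hxU x⟩)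
      generators := G }
  have hf : ∀ x, (G x).IsFiniteType := fun x ↦ { finite := hG x }
  have hσ : SheafOfModules.LocalGeneratorsData.IsFiniteType.{u} σ := { isFiniteType := hf }
  constructor
  exact ⟨σ, hσ⟩

/-- Finite type, affine-locally. -/
theorem isFiniteType_iff (M : X.Modules) [M.IsQuasicoherent] :
    SheafOfModules.IsFiniteType.{u} M ↔
      ∀ U : X.Opens, IsAffineOpen U → Module.Finite Γ(X, U) Γ(M, U) := by
  refine ⟨fun _ U hU ↦ finite_sections_of_isFiniteType M hU, fun H ↦ ?_⟩
  refine isFiniteType_of_forall_exists M fun x ↦ ?_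
  obtain ⟨_, ⟨U, hU, rfl⟩, hxU, -⟩ := X.isBasis_affineOpens.exists_subset_of_mem_open
    (Set.mem_univ x) isOpen_univ
  exact ⟨U, hU, hxU, H U hU⟩

end Groth.Agent.QCoh

end
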