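import Mathlib.AlgebraicGeometry.Modules.Tilde
import Mathlib.AlgebraicGeometry.Morphisms.QuasiSeparated

/-!
# Quasi-coherent modules on schemes: affine-local description

`M.IsQuasicoherent` iff for every affine open `U` and `f : Γ(X, U)`, the restriction
`Γ(M, U) → Γ(M, D(f))` "is" the localization at `f` (`IsLocalizingAt`).
-/

universe u

open CategoryTheory Limits AlgebraicGeometry Opposite TopologicalSpace

noncomputable section

namespace Groth.Agent.QCoh

variable {X : Scheme.{u}}

/-- Restriction of sections of a module. -/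
abbrev res (M : X.Modules) {U V : X.Opens} (h : V ≤ U) : Γ(M, U) ⟶ Γ(M, V) :=
  M.presheaf.map (homOfLE h).op

/-- Restriction of functions. -/
abbrev rres {U V : X.Opens} (h : V ≤ U) : Γ(X, U) ⟶ Γ(X, V) :=
  X.presheaf.map (homOfLE h).op

lemma res_res (M : X.Modules) {U V W : X.Opens} (h : V ≤ U) (h' : W ≤ V) (x : Γ(M, U)) :
    res M h' (res M h x) = res M (h'.trans h) x := by
  rw [← ConcreteCategory.comp_apply, ← Functor.map_comp]; rfl

lemma rres_rres {U V W : X.Opens} (h : V ≤ U) (h' : W ≤ V) (x : Γ(X, U)) :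
    rres h' (rres h x) = rres (h'.trans h) x := by
  rw [← ConcreteCategory.comp_apply, ← Functor.map_comp]; rfl

lemma res_self (M : X.Modules) {U : X.Opens} (h : U ≤ U) (x : Γ(M, U)) : res M h x = x := by
  simp [res]

lemma rres_self {U : X.Opens} (h : U ≤ U) (x : Γ(X, U)) : rres h x = x := by
  simp [rres]

@[simp]
lemma res_smul (M : X.Modules) {U V : X.Opens} (h : V ≤ U) (r : Γ(X, U)) (x : Γ(M, U)) :
    res M h (r • x) = rres h r • res M h x :=
  Scheme.Modules.map_smul _ _ _ _

lemma app_res {M N : X.Modules} (φ : M ⟶ N) {U V : X.Opens} (h : V ≤ U) (x : Γ(M, U)) :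
    φ.app V (res M h x) = res N h (φ.app U x) := by
  rw [← ConcreteCategory.comp_apply, ← ConcreteCategory.comp_apply]
  exact congr($(φ.mapPresheaf.naturality (homOfLE h).op) x)

/-- Two sections agreeing on a cover are equal. -/
lemma eq_of_locally_eq (M : X.Modules) {ι : Type*} {U : ι → X.Opens} {V : X.Opens}
    (h : ∀ i, U i ≤ V) (hV : V ≤ ⨆ i, U i) (s t : Γ(M, V))
    (hst : ∀ i, res M (h i) s = res M (h i) t) : s = t :=
  TopCat.Sheaf.eq_of_locally_eq' ⟨_, M.isSheaf⟩ U V (fun i ↦ homOfLE (h i)) hV s t hst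

lemma eq_zero_of_locally_eq_zero (M : X.Modules) {ι : Type*} {U : ι → X.Opens} {V : X.Opens}
    (h : ∀ i, U i ≤ V) (hV : V ≤ ⨆ i, U i) (s : Γ(M, V))
    (hs : ∀ i, res M (h i) s = 0) : s = 0 :=
  eq_of_locally_eq M h hV s 0 (fun i ↦ by rw [hs i, map_zero])

/-- Glue compatible sections. -/
lemma exists_glue (M : X.Modules) {ι : Type*} {U : ι → X.Opens} {V : X.Opens}
    (h : ∀ i, U i ≤ V) (hV : V ≤ ⨆ i, U i) (sf : ∀ i, Γ(M, U i))
    (hsf : ∀ i j, res M (inf_le_left : U i ⊓ U j ≤ U i) (sf i) =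
      res M (inf_le_right : U i ⊓ U j ≤ U j) (sf j)) :
    ∃ s : Γ(M, V), ∀ i, res M (h i) s = sf i := by
  obtain ⟨s, hs, -⟩ := TopCat.Sheaf.existsUnique_gluing' ⟨_, M.isSheaf⟩ U V
    (fun i ↦ homOfLE (h i)) hV sf (fun i j ↦ hsf i j)
  exact ⟨s, hs⟩

/-- The restriction `Γ(M, U) → Γ(M, W)` behaves like the localization at `f`. -/
structure IsLocalizingOn (M : X.Modules) {U W : X.Opens} (h : W ≤ U) (f : Γ(X, U)) : Prop where
  surj : ∀ s : Γ(M, W), ∃ (n : ℕ) (t : Γ(M, U)), res M h t = (rres h f) ^ n • s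
  eq_zero : ∀ t : Γ(M, U), res M h t = 0 → ∃ n : ℕ, f ^ n • t = 0

/-- `Γ(M, U) → Γ(M, D(f))` behaves like the localization at `f`. -/
abbrev IsLocalizingAt (M : X.Modules) {U : X.Opens} (f : Γ(X, U)) : Prop :=
  IsLocalizingOn M (X.basicOpen_le f) f

lemma IsLocalizingOn.congr {M : X.Modules} {U W U' W' : X.Opens} {h : W ≤ U} {f : Γ(X, U)}
    (H : IsLocalizingOn M h f) (eU : U' = U) (eW : W' = W) :
    IsLocalizingOn M (eU ▸ eW ▸ h : W' ≤ U') (rres eU.le f) := by
  subst eU eW
  rw [rres_self]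
  exact H

lemma IsLocalizingOn.congr_iff {M : X.Modules} {U W U' W' : X.Opens} {h : W ≤ U} {h' : W' ≤ U'}
    {f : Γ(X, U)} (eU : U' = U) (eW : W' = W) :
    IsLocalizingOn M h f ↔ IsLocalizingOn M h' (rres eU.le f) := by
  subst eU eW
  rw [rres_self]

lemma IsLocalizingOn.of_iso {M N : X.Modules} (e : M ≅ N) {U W : X.Opens} {h : W ≤ U}
    {f : Γ(X, U)} (H : IsLocalizingOn M h f) : IsLocalizingOn N h f where
  surj s := by
    obtain ⟨n, t, ht⟩ := H.surj (e.inv.app W s)
    refine ⟨n, e.hom.app U t, ?_⟩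
    rw [← app_res, ht, Scheme.Modules.Hom.app_smul, ← ConcreteCategory.comp_apply,
      ← Scheme.Modules.Hom.comp_app, e.inv_hom_id]
    rfl
  eq_zero t ht := by
    obtain ⟨n, hn⟩ := H.eq_zero (e.inv.app U t) (by rw [← app_res, ht, map_zero])
    refine ⟨n, ?_⟩
    have := congr(e.hom.app U $hn)
    rwa [Scheme.Modules.Hom.app_smul, map_zero, ← ConcreteCategory.comp_apply,
      ← Scheme.Modules.Hom.comp_app, e.inv_hom_id] at this

section Spec

variable {R : CommRingCat.{u}}

lemma rres_pow_smul (M : (Spec R).Modules) {V : (Spec R).Opens} (r : R) (n : ℕ) (x : Γ(M, V)) :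
    (rres (le_top : V ≤ ⊤) ((Scheme.ΓSpecIso R).inv r)) ^ n • x = r ^ n • x := by
  rw [Scheme.Modules.smul_Spec_def (r ^ n), map_pow, map_pow]
  rfl

lemma top_pow_smul (M : (Spec R).Modules) (r : R) (n : ℕ) (x : Γ(M, ⊤)) :
    ((Scheme.ΓSpecIso R).inv r) ^ n • x = r ^ n • x := by
  rw [← rres_pow_smul, rres_self]

/-- On an affine scheme, quasi-coherence is the localizing property of the principal opens. -/
theorem isQuasicoherent_Spec_iff (M : (Spec R).Modules) :
    M.IsQuasicoherent ↔ ∀ r : R, IsLocalizingOn M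
      (le_top : (PrimeSpectrum.basicOpen r : (Spec R).Opens) ≤ ⊤) ((Scheme.ΓSpecIso R).inv r) := by
  rw [isQuasicoherent_iff_isIso_fromTildeΓ, isIso_fromTildeΓ_iff_isLocalizing]
  refine forall_congr' fun r ↦ ?_
  let φ := ((modulesSpecToSheaf.obj M).obj.map (PrimeSpectrum.basicOpen r).leTop.op).hom
  constructor
  · intro H
    have hH : IsLocalizedModule.Away r φ := H
    refine ⟨fun s ↦ ?_, fun t ht ↦ ?_⟩
    · obtain ⟨n, y, hy⟩ := hH.surj _ _ s
      exact ⟨n, y, hy.symm.trans (rres_pow_smul M r n s).symm⟩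
    · obtain ⟨⟨_, n, rfl⟩, hn⟩ := (IsLocalizedModule.eq_zero_iff (.powers r) φ).mp ht
      exact ⟨n, (top_pow_smul M r n t).trans hn⟩
  · intro H
    refine IsLocalizedModule.Away.mk_of_addCommGroup ?_ ?_ ?_
    · exact Scheme.Modules.isUnit_algebraMap_end_of_le_basicOpen r le_rfl
    · intro (x : Γ(M, (PrimeSpectrum.basicOpen r : (Spec R).Opens)))
      obtain ⟨n, t, ht⟩ := H.surj x
      exact ⟨n, t, ((ht.trans (rres_pow_smul M r n x))).symm⟩
    · intro x hx
      obtain ⟨n, hn⟩ := H.eq_zero x hx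
      exact ⟨n, (top_pow_smul M r n x).symm.trans hn⟩

end Spec

section Restrict

variable {Y : Scheme.{u}} (j : Y ⟶ X) [IsOpenImmersion j]

lemma restrict_smul (M : X.Modules) {V : Y.Opens} (r : Γ(Y, V)) (x : Γ(M.restrict j, V)) :
    (M.restrictAppIso j V).hom (r • x) = (j.appIso V).inv r • (M.restrictAppIso j V).hom x :=
  Scheme.Modules.smul_restrictAppIso_hom_apply j M V r x

lemma restrict_res (M : X.Modules) {U V : Y.Opens} (h : V ≤ U) (x : Γ(M.restrict j, U)) :
    (M.restrictAppIso j V).hom (res (M.restrict j) h x) =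
      res M (j.image_mono h) ((M.restrictAppIso j U).hom x) :=
  Scheme.Modules.map_restrictAppIso_hom_apply j M (homOfLE h).op x

lemma appIso_inv_rres {U V : Y.Opens} (h : V ≤ U) (r : Γ(Y, U)) :
    (j.appIso V).inv (rres h r) = rres (j.image_mono h) ((j.appIso U).inv r) := by
  rw [← ConcreteCategory.comp_apply, ← ConcreteCategory.comp_apply]
  exact congr($(Scheme.Hom.appIso_inv_naturality j (homOfLE h).op) r)

lemma isLocalizingOn_restrict_iff (M : X.Modules) {U W : Y.Opens} (h : W ≤ U) (f : Γ(Y, U)) :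
    IsLocalizingOn (M.restrict j) h f ↔
      IsLocalizingOn M (j.image_mono h) ((j.appIso U).inv f) := by
  have inj : ∀ V, Function.Injective (M.restrictAppIso j V).hom := fun V ↦
    (ConcreteCategory.bijective_of_isIso (M.restrictAppIso j V).hom).1
  constructor
  · intro H
    refine ⟨fun s ↦ ?_, fun t ht ↦ ?_⟩
    · obtain ⟨n, t, ht⟩ := H.surj ((M.restrictAppIso j W).inv s)
      refine ⟨n, (M.restrictAppIso j U).hom t, ?_⟩
      rw [← restrict_res j M h, ht, restrict_smul, map_pow, appIso_inv_rres j h]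
      rfl
    · obtain ⟨n, hn⟩ := H.eq_zero ((M.restrictAppIso j U).inv t) (inj W (by
        rw [restrict_res, map_zero]; exact ht))
      refine ⟨n, ?_⟩
      have := congr((M.restrictAppIso j U).hom $hn)
      rwa [restrict_smul, map_zero, map_pow] at this
  · intro H
    refine ⟨fun s ↦ ?_, fun t ht ↦ ?_⟩
    · obtain ⟨n, t, ht⟩ := H.surj ((M.restrictAppIso j W).hom s)
      refine ⟨n, (M.restrictAppIso j U).inv t, inj W ?_⟩
      rw [restrict_res j M h, restrict_smul, map_pow, appIso_inv_rres j h]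
      exact ht
    · obtain ⟨n, hn⟩ := H.eq_zero ((M.restrictAppIso j U).hom t) (by
        rw [← restrict_res j M h, ht, map_zero])
      refine ⟨n, inj U ?_⟩
      rw [restrict_smul, map_zero, map_pow]
      exact hn

end Restrict

section Affine

variable {U : X.Opens} (hU : IsAffineOpen U)

/-- Restriction of a module to an affine open, as a module on `Spec Γ(X, U)`. -/
abbrev toSpec (M : X.Modules) : (Spec Γ(X, U)).Modules := M.restrict hU.fromSpec

lemma fromSpec_image_top : hU.fromSpec ''ᵁ ⊤ = U := by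
  rw [Scheme.Hom.image_top_eq_opensRange, hU.opensRange_fromSpec]

lemma appIso_inv_ΓSpecIso_inv (r : Γ(X, U)) :
    (hU.fromSpec.appIso ⊤).inv ((Scheme.ΓSpecIso Γ(X, U)).inv r) =
      rres (fromSpec_image_top hU).le r := by
  apply (ConcreteCategory.bijective_of_isIso (hU.fromSpec.appIso ⊤).hom).1
  rw [Iso.inv_hom_id_apply, Scheme.Hom.appIso_hom', rres, ← ConcreteCategory.comp_apply,
    Scheme.Hom.map_appLE, Scheme.Hom.appLE, hU.fromSpec_app_self, Category.assoc,
    ← Functor.map_comp, ConcreteCategory.comp_apply]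
  rw [show (eqToHom hU.fromSpec_preimage_self).op ≫ _ =
    𝟙 (op (⊤ : (Spec Γ(X, U)).Opens)) from Subsingleton.elim _ _]
  simp

theorem isQuasicoherent_toSpec_iff (M : X.Modules) :
    (toSpec hU M).IsQuasicoherent ↔ ∀ f : Γ(X, U), IsLocalizingAt M f := by
  rw [isQuasicoherent_Spec_iff]
  refine forall_congr' fun f ↦ ?_
  refine (isLocalizingOn_restrict_iff hU.fromSpec M _ _).trans ?_
  erw [appIso_inv_ΓSpecIso_inv hU f]
  exact (IsLocalizingOn.congr_iff (fromSpec_image_top hU) (hU.fromSpec_image_basicOpen f)).symm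

/-- Transport a presentation along an isomorphism. -/
def presentationOfIso {Y : Scheme.{u}} {M N : Y.Modules} (e : M ≅ N) (P : M.Presentation) :
    N.Presentation :=
  letI e' : @Iso (SheafOfModules.{u} Y.ringCatSheaf) _ M N := e
  haveI : IsIso e'.hom := Iso.isIso_hom e'
  @SheafOfModules.Presentation.ofIsIso.{u, u, u} _ _ _ _ _ _ _ _ e'.hom (Iso.isIso_hom e') P

/-- A module on `X` presented on an affine open, from quasi-coherence on the spectrum. -/
def presentationRestrictOfToSpec (M : X.Modules) [(toSpec hU M).IsQuasicoherent] :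
    (M.restrict U.ι).Presentation :=
  haveI := Scheme.Modules.isIso_fromTildeΓ_of_isQuasicoherent (toSpec hU M)
  let P₀ : (toSpec hU M).Presentation := presentationOfIso (asIso (toSpec hU M).fromTildeΓ)
    (presentationTilde.{u} _ .univ (by simp) _ (Submodule.span_eq _))
  let e : Scheme.Modules.restrictFunctor hU.fromSpec ⋙ Scheme.Modules.restrictFunctor
      hU.isoSpec.hom ≅ Scheme.Modules.restrictFunctor U.ι :=
    (Scheme.Modules.restrictFunctorComp _ _).symm ≪≫
      Scheme.Modules.restrictFunctorCongr hU.isoSpec_hom_fromSpec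
  presentationOfIso (e.app M) (Scheme.Modules.presentationRestrict hU.isoSpec.hom P₀)

end Affine

/-- A presentation of `M.restrict U.ι` gives one of `M.over U`. -/
def presentationOver (M : X.Modules) (U : X.Opens) (P : (M.restrict U.ι).Presentation) :
    (M.over U).Presentation :=
  let E := Scheme.Modules.overEquiv U
  let η : SheafOfModules.unit.{u} _ ≅ E.inverse.obj (SheafOfModules.unit.{u} _) :=
    (U.sheafOfModulesEquivOverInverseUnit X.ringCatSheaf).symm
  let F : SheafOfModules.{u} U.toScheme.ringCatSheaf ⥤ SheafOfModules.{u} (X.ringCatSheaf.over U) :=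
    E.inverse
  haveI : PreservesColimitsOfSize.{u, u} F := E.symm.toAdjunction.leftAdjoint_preservesColimits
  SheafOfModules.Presentation.ofIsIso.{u, u, u}
    (E.inverse.mapIso ((Scheme.Modules.overFunctorEquiv U).app M).symm ≪≫
      (E.unitIso.app (M.over U)).symm).hom (P.map F η)

/-- Quasi-coherence can be checked on an affine cover. -/
theorem isQuasicoherent_of_forall_exists (M : X.Modules)
    (H : ∀ x : X, ∃ (U : X.Opens) (hU : IsAffineOpen U),
      x ∈ U ∧ (toSpec hU M).IsQuasicoherent) : M.IsQuasicoherent := by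
  choose U hU hxU hq using H
  refine SheafOfModules.QuasicoherentData.isQuasicoherent.{u}
    { I := X
      X := U
      coversTop := (Opens.coversTop_iff (U := U)).mpr (top_le_iff.mp fun x _ ↦
        Opens.mem_iSup.mpr ⟨x, hxU x⟩)
      presentation := fun x ↦
        haveI := hq x
        presentationOver M (U x) (presentationRestrictOfToSpec (hU x) M) }

/-- Quasi-coherence, affine-locally. -/
theorem isQuasicoherent_iff_forall_isAffineOpen (M : X.Modules) :
    M.IsQuasicoherent ↔
      ∀ (U : X.Opens), IsAffineOpen U → ∀ f : Γ(X, U), IsLocalizingAt M f := by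
  refine ⟨fun _ U hU ↦ (isQuasicoherent_toSpec_iff hU M).mp
    (Scheme.Modules.isQuasicoherent_restrictFunctor hU.fromSpec M), fun H ↦ ?_⟩
  refine isQuasicoherent_of_forall_exists M fun x ↦ ?_
  obtain ⟨U, hU, hxU, -⟩ := X.isBasis_affineOpens.exists_subset_of_mem_open
    (Set.mem_univ x) isOpen_univ
  obtain ⟨W, hW, rfl⟩ := hU
  exact ⟨W, hW, hxU, (isQuasicoherent_toSpec_iff hW M).mpr (H W hW)⟩

lemma isLocalizingAt (M : X.Modules) [M.IsQuasicoherent] {U : X.Opens} (hU : IsAffineOpen U)
    (f : Γ(X, U)) : IsLocalizingAt M f :=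
  (isQuasicoherent_iff_forall_isAffineOpen M).mp inferInstance U hU f

/-- Quasi-coherence can be checked on an affine cover through the localizing property. -/
theorem isQuasicoherent_of_forall_exists_isLocalizingAt (M : X.Modules)
    (H : ∀ x : X, ∃ (U : X.Opens), IsAffineOpen U ∧ x ∈ U ∧ ∀ f : Γ(X, U), IsLocalizingAt M f) :
    M.IsQuasicoherent :=
  isQuasicoherent_of_forall_exists M fun x ↦ by
    obtain ⟨U, hU, hxU, h⟩ := H x
    exact ⟨U, hU, hxU, (isQuasicoherent_toSpec_iff hU M).mpr h⟩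

/-- Quasi-coherence is invariant under isomorphism. -/
lemma isQuasicoherent_of_iso {M N : X.Modules} (e : M ≅ N) [M.IsQuasicoherent] :
    N.IsQuasicoherent :=
  (SheafOfModules.isQuasicoherent X.ringCatSheaf).prop_of_iso e inferInstance

/-- Quasi-coherence is local on an open cover. -/
theorem isQuasicoherent_of_isOpenCover (M : X.Modules) {ι : Type*} (U : ι → X.Opens)
    (hU : IsOpenCover U) [∀ i, (M.restrict (U i).ι).IsQuasicoherent] : M.IsQuasicoherent := by
  refine isQuasicoherent_of_forall_exists M fun x ↦ ?_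
  obtain ⟨i, hi⟩ := hU.exists_mem x
  obtain ⟨_, ⟨W, hW, rfl⟩, hxW, hWU⟩ := X.isBasis_affineOpens.exists_subset_of_mem_open
    hi (U i).2
  refine ⟨W, hW, hxW, ?_⟩
  let t := IsOpenImmersion.lift (U i).ι hW.fromSpec
    (by rw [hW.range_fromSpec, Scheme.Opens.range_ι]; exact hWU)
  have hj : IsOpenImmersion hW.fromSpec := hW.isOpenImmersion_fromSpec
  have ht : IsOpenImmersion t := by
    have : IsOpenImmersion (t ≫ (U i).ι) := by rw [IsOpenImmersion.lift_fac]; exact hj
    exact IsOpenImmersion.of_comp t (U i).ι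
  have : ((Scheme.Modules.restrictFunctor t).obj (M.restrict (U i).ι)).IsQuasicoherent :=
    Scheme.Modules.isQuasicoherent_restrictFunctor t (M.restrict (U i).ι)
  exact isQuasicoherent_of_iso (M := (Scheme.Modules.restrictFunctor t).obj (M.restrict (U i).ι))
    (((Scheme.Modules.restrictFunctorComp t (U i).ι).symm ≪≫
      Scheme.Modules.restrictFunctorCongr (IsOpenImmersion.lift_fac _ _ _)).app M)

instance (U : X.Opens) (M : X.Modules) [M.IsQuasicoherent] :
    (M.restrict U.ι).IsQuasicoherent :=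
  Scheme.Modules.isQuasicoherent_restrictFunctor U.ι M

end Groth.Agent.QCoh

end
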