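import Groth.Agent.QCoh.Exact
import Mathlib.AlgebraicGeometry.Morphisms.Affine
import Mathlib.AlgebraicGeometry.Morphisms.Separated

/-!
# The qcqs lemma for quasi-coherent modules and pushforward along qcqs morphisms
-/

universe u

open CategoryTheory Limits AlgebraicGeometry Opposite TopologicalSpace

noncomputable section

namespace Groth.Agent.QCoh

variable {X Y : Scheme.{u}}

lemma isLocalizingOn_inf (M : X.Modules) [M.IsQuasicoherent] {U A : X.Opens} (hA : IsAffineOpen A)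
    (h : A ≤ U) (f : Γ(X, U)) :
    IsLocalizingOn M (inf_le_left : A ⊓ X.basicOpen f ≤ A) (rres h f) := by
  have hW : A ⊓ X.basicOpen f = X.basicOpen (rres h f) := (X.basicOpen_res _ _).symm
  have h' := (IsLocalizingOn.congr_iff (h' := (inf_le_left : A ⊓ X.basicOpen f ≤ A)) rfl hW).mp
    (isLocalizingAt M hA (rres h f))
  rwa [rres_self] at h'

/-- A section over a quasi-compact open vanishing on `D(f)` is killed by a power of `f`. -/
theorem exists_pow_smul_eq_zero (M : X.Modules) [M.IsQuasicoherent] {U : X.Opens}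
    (hU : IsCompact (U : Set X)) (f : Γ(X, U)) (t : Γ(M, U))
    (ht : res M (X.basicOpen_le f) t = 0) : ∃ n : ℕ, f ^ n • t = 0 := by
  obtain ⟨s, hs, e⟩ := isCompact_iff_finite_and_eq_biUnion_affineOpens.mp hU
  have hle (i : s) : i.1.1 ≤ U := e ▸ le_iSup₂_of_le i.1 i.2 le_rfl
  have := hs.to_subtype
  choose n hn using fun i : s ↦ (isLocalizingOn_inf M i.1.2 (hle i) f).eq_zero
    (res M (hle i) t) (by
      have := congr(res M (inf_le_right : i.1.1 ⊓ X.basicOpen f ≤ _) $ht)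
      rwa [map_zero, res_res, ← res_res M (hle i) inf_le_left] at this)
  obtain ⟨N, hN⟩ : ∃ N, ∀ i, n i ≤ N :=
    (Finite.exists_le n).imp fun N hN i ↦ hN i
  refine ⟨N, eq_zero_of_locally_eq_zero M hle ?_ _ fun i ↦ ?_⟩
  · rw [e]
    exact iSup₂_le fun i hi ↦ le_iSup (fun i : s ↦ i.1.1) ⟨i, hi⟩
  · rw [res_smul, map_pow, ← Nat.sub_add_cancel (hN i), pow_add, mul_smul, hn, smul_zero]

/-- The qcqs lemma: `Γ(U_f, M) = Γ(U, M)_f` for quasi-coherent `M` and qcqs `U`. -/
theorem isLocalizingAt_of_qcqs (M : X.Modules) [M.IsQuasicoherent] {U : X.Opens}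
    (hU : IsCompact (U : Set X)) (hU' : IsQuasiSeparated (U : Set X)) (f : Γ(X, U)) :
    IsLocalizingAt M f := by
  refine ⟨fun σ ↦ ?_, fun t ht ↦ exists_pow_smul_eq_zero M hU f t ht⟩
  obtain ⟨s, hs, e⟩ := isCompact_iff_finite_and_eq_biUnion_affineOpens.mp hU
  have hle (i : s) : i.1.1 ≤ U := e ▸ le_iSup₂_of_le i.1 i.2 le_rfl
  have := hs.to_subtype
  have hcov : U ≤ ⨆ i : s, i.1.1 := by
    rw [e]
    exact iSup₂_le fun i hi ↦ le_iSup (fun i : s ↦ i.1.1) ⟨i, hi⟩
  choose n t ht using fun i : s ↦ (isLocalizingOn_inf M i.1.2 (hle i) f).surj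
    (res M inf_le_right σ)
  obtain ⟨N, hN⟩ : ∃ N, ∀ i, n i ≤ N :=
    (Finite.exists_le n).imp fun N hN i ↦ hN i
  let t' (i : s) : Γ(M, i.1.1) := rres (hle i) f ^ (N - n i) • t i
  have ht' (i : s) : res M (inf_le_left : i.1.1 ⊓ X.basicOpen f ≤ _) (t' i) =
      rres ((inf_le_left : i.1.1 ⊓ X.basicOpen f ≤ i.1.1).trans (hle i)) f ^ N •
        res M (inf_le_right : i.1.1 ⊓ X.basicOpen f ≤ _) σ := by
    simp only [t', res_smul, map_pow, rres_rres, ht, smul_smul, ← pow_add]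
    rw [Nat.sub_add_cancel (hN i)]
  have hz (i j : s) : ∃ m : ℕ, rres (inf_le_left.trans (hle i) : i.1.1 ⊓ j.1.1 ≤ U) f ^ m •
      (res M inf_le_left (t' i) - res M inf_le_right (t' j)) = 0 := by
    refine exists_pow_smul_eq_zero M (hU' _ _ (hle i) i.1.1.2 i.1.2.isCompact (hle j)
      j.1.1.2 j.1.2.isCompact) _ _ ?_
    have hW : X.basicOpen (rres (inf_le_left.trans (hle i) : i.1.1 ⊓ j.1.1 ≤ U) f) ≤
        i.1.1 ⊓ j.1.1 ⊓ X.basicOpen f := (X.basicOpen_res _ _).le
    have e₁ := congr(res M (hW.trans (le_inf (inf_le_left.trans inf_le_left) inf_le_right))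
      $(ht' i))
    have e₂ := congr(res M (hW.trans (le_inf (inf_le_left.trans inf_le_right) inf_le_right))
      $(ht' j))
    simp only [res_res, res_smul, map_pow, rres_rres] at e₁ e₂
    simp only [map_sub, res_res, e₁, e₂, sub_self]
  choose m hm using hz
  obtain ⟨L, hL⟩ : ∃ L, ∀ p : s × s, m p.1 p.2 ≤ L :=
    (Finite.exists_le fun p : s × s ↦ m p.1 p.2).imp fun L hL p ↦ hL p
  obtain ⟨u, hu⟩ := exists_glue M hle hcov (fun i ↦ rres (hle i) f ^ L • t' i) fun i j ↦ by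
    simp only [res_smul, map_pow, rres_rres]
    rw [← sub_eq_zero, ← smul_sub, ← Nat.sub_add_cancel (hL (i, j)), pow_add, mul_smul, hm,
      smul_zero]
  refine ⟨L + N, u, eq_of_locally_eq M (U := fun i : s ↦ i.1.1 ⊓ X.basicOpen f)
    (fun i ↦ inf_le_right) ?_ _ _ fun i ↦ ?_⟩
  · intro x hx
    obtain ⟨i, hi⟩ := Opens.mem_iSup.mp (hcov (X.basicOpen_le f hx))
    exact Opens.mem_iSup.mpr ⟨i, hi, hx⟩
  · rw [res_res, ← res_res M (hle i) inf_le_left, hu]
    simp only [res_smul, map_pow, rres_rres, ht', smul_smul, ← pow_add]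

/-- Localizing property on a quasi-compact open of a quasi-separated scheme. -/
theorem isLocalizingAt_of_isCompact (M : X.Modules) [M.IsQuasicoherent] [QuasiSeparatedSpace X]
    {U : X.Opens} (hU : IsCompact (U : Set X)) (f : Γ(X, U)) : IsLocalizingAt M f :=
  isLocalizingAt_of_qcqs M hU (IsQuasiSeparated.of_quasiSeparatedSpace _) f

/-- A section of a pushforward as a section on the preimage. -/
abbrev unPush (φ : X ⟶ Y) (M : X.Modules) {V : Y.Opens}
    (x : Γ((Scheme.Modules.pushforward φ).obj M, V)) : Γ(M, φ ⁻¹ᵁ V) := x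

lemma push_smul (φ : X ⟶ Y) (M : X.Modules) {V : Y.Opens} (r : Γ(Y, V))
    (x : Γ((Scheme.Modules.pushforward φ).obj M, V)) :
    unPush φ M (r • x) = φ.app V r • unPush φ M x := rfl

/-- Pushforward along a qcqs morphism preserves quasi-coherence. -/
theorem isQuasicoherent_pushforward (φ : X ⟶ Y) [QuasiCompact φ] [QuasiSeparated φ]
    (M : X.Modules) [M.IsQuasicoherent] :
    ((Scheme.Modules.pushforward φ).obj M).IsQuasicoherent := by
  rw [isQuasicoherent_iff_forall_isAffineOpen]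
  intro V hV r
  have hc : IsCompact ((φ ⁻¹ᵁ V : X.Opens) : Set X) :=
    QuasiCompact.isCompact_preimage _ V.2 hV.isCompact
  have hqs : IsQuasiSeparated ((φ ⁻¹ᵁ V : X.Opens) : Set X) :=
    φ.isQuasiSeparated_preimage hV.isQuasiSeparated
  have H := (IsLocalizingOn.congr_iff (h' := φ.preimage_mono (Y.basicOpen_le r)) rfl
    (Scheme.preimage_basicOpen φ r)).mp (isLocalizingAt_of_qcqs M hc hqs (φ.app V r))
  rw [rres_self] at H
  refine ⟨fun σ ↦ ?_, fun t ht ↦ ?_⟩
  · obtain ⟨n, t, ht⟩ := H.surj σ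
    refine ⟨n, t, ht.trans (Eq.trans ?_ (push_smul φ M (rres (Y.basicOpen_le r) r ^ n) σ).symm)⟩
    rw [map_pow]
    congr 2
    exact congr($(φ.naturality (homOfLE (Y.basicOpen_le r)).op) r).symm
  · obtain ⟨n, hn⟩ := H.eq_zero t ht
    exact ⟨n, (push_smul φ M (r ^ n) t).trans (by rw [map_pow]; exact hn)⟩

instance (φ : X ⟶ Y) [IsAffineHom φ] (M : X.Modules) [M.IsQuasicoherent] :
    ((Scheme.Modules.pushforward φ).obj M).IsQuasicoherent :=
  have : QuasiSeparated φ := inferInstanceAs (QuasiSeparated φ)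
  isQuasicoherent_pushforward φ M

end Groth.Agent.QCoh

end
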